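/-
Finite purely inseparable extensions making the reduced algebra geometrically reduced (helper33).
-/
import Groth.Agent.FBase.Point
import Mathlib.RingTheory.Smooth.Locus
import Mathlib.RingTheory.FiniteStability
import Groth.Agent.CAlg48.SepGen

set_option autoImplicit false
universe u
open TensorProduct

namespace Groth.Agent.GeomRedPI

variable (k : Type u) [Field k]

/-- An element of `L ⊗ A` lies in the image of `k' ⊗ A` for `k'` containing finitely many given elements. -/
theorem exists_finset_mem_range {L : Type u} [Field L] [Algebra k L] {A : Type u} [CommRing A] [Algebra k A]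
    (z : L ⊗[k] A) : ∃ s : Finset L, ∀ k' : IntermediateField k L, (↑s : Set L) ⊆ k' →
      z ∈ Set.range (Algebra.TensorProduct.map k'.val (AlgHom.id k A)) := by
  classical
  induction z using TensorProduct.induction_on with
  | zero => exact ⟨∅, fun k' _ ↦ ⟨0, map_zero _⟩⟩
  | tmul l a => exact ⟨{l}, fun k' h ↦ ⟨⟨l, h (by simp)⟩ ⊗ₜ a, rfl⟩⟩
  | add x y hx hy =>
    obtain ⟨s, hs⟩ := hx
    obtain ⟨t, ht⟩ := hy
    refine ⟨s ∪ t, fun k' h ↦ ?_⟩
    rw [Finset.coe_union, Set.union_subset_iff] at h
    obtain ⟨x', hx'⟩ := hs k' h.1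
    obtain ⟨y', hy'⟩ := ht k' h.2
    exact ⟨x' + y', by rw [map_add, hx', hy']⟩

theorem isGeometricallyReduced_quotient {k' L A : Type u} [Field k'] [Field L] [Algebra k k'] [Algebra k' L]
    [Algebra k L] [IsScalarTower k k' L] [PerfectField L] [CommRing A] [Algebra k A] (S : Set (L ⊗[k] A))
    (hS : nilradical (L ⊗[k] A) = Ideal.span S)
    (hgen : S ⊆ Set.range (Algebra.TensorProduct.map (IsScalarTower.toAlgHom k k' L) (AlgHom.id k A))) :
    Algebra.IsGeometricallyReduced k' ((k' ⊗[k] A) ⧸ nilradical (k' ⊗[k] A)) := by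
  let ι := Algebra.TensorProduct.map (IsScalarTower.toAlgHom k k' L) (AlgHom.id k A)
  have hι : Function.Injective ι :=
    Module.Flat.rTensor_preserves_injective_linearMap _ (RingHom.injective (algebraMap k' L))
  let e : L ⊗[k'] (k' ⊗[k] A) ≃ₐ[L] L ⊗[k] A := Algebra.TensorProduct.cancelBaseChange k k' L L A
  let N' := nilradical (k' ⊗[k] A)
  let I : Ideal (L ⊗[k'] (k' ⊗[k] A)) :=
    N'.map (Algebra.TensorProduct.includeRight : _ →ₐ[k'] L ⊗[k'] (k' ⊗[k] A))
  have hcomp : ∀ w : k' ⊗[k] A, e (1 ⊗ₜ w) = ι w := fun w ↦ by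
    induction w using TensorProduct.induction_on with
    | zero => simp
    | tmul c a =>
      simp [e, ι, Algebra.smul_def]
    | add x y hx hy => rw [tmul_add, map_add, map_add, hx, hy]
  have hI : (nilradical (L ⊗[k] A)) = I.map (e : L ⊗[k'] (k' ⊗[k] A) →+* L ⊗[k] A) := by
    refine le_antisymm ?_ ?_
    · rw [hS, Ideal.span_le]
      intro z hz
      have hzn : IsNilpotent z := mem_nilradical.mp (hS ▸ Ideal.subset_span hz)
      obtain ⟨w, rfl⟩ := hgen hz
      change ι w ∈ I.map (e : L ⊗[k'] (k' ⊗[k] A) →+* L ⊗[k] A)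
      rw [← hcomp]
      exact Ideal.mem_map_of_mem _ (Ideal.mem_map_of_mem _ (mem_nilradical.mpr ((IsNilpotent.map_iff hι).mp hzn)))
    · rw [Ideal.map_le_iff_le_comap, Ideal.map_le_iff_le_comap]
      intro w hw
      exact mem_nilradical.mpr (((mem_nilradical.mp hw).map _).map _)
  have hred : _root_.IsReduced ((L ⊗[k] A) ⧸ nilradical (L ⊗[k] A)) :=
    (Ideal.isRadical_iff_quotient_reduced _).mp (Ideal.radical_isRadical _)
  have h1 : _root_.IsReduced ((L ⊗[k'] (k' ⊗[k] A)) ⧸ I) :=
    isReduced_of_injective (Ideal.quotientEquiv I _ e.toRingEquiv hI) (RingEquiv.injective _)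
  let e2 := Algebra.TensorProduct.tensorQuotientEquiv (R := k') (S := L) (T := k' ⊗[k] A) (A := L) N'
  have h2 : _root_.IsReduced (L ⊗[k'] ((k' ⊗[k] A) ⧸ N')) := isReduced_of_injective e2 (AlgEquiv.injective _)
  have : _root_.IsReduced (((k' ⊗[k] A) ⧸ N') ⊗[k'] L) :=
    isReduced_of_injective (Algebra.TensorProduct.comm k' _ L) (AlgEquiv.injective _)
  exact FBase.Point.isGeometricallyReduced_of_perfectField_of_isReduced (L := L)

/-- After a finite purely inseparable extension the reduced algebra is geometrically reduced. -/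
theorem exists_isGeometricallyReduced (A : Type u) [CommRing A] [Algebra k A] [Algebra.FiniteType k A] :
    ∃ (k' : Type u) (_ : Field k') (_ : Algebra k k'), Module.Finite k k' ∧ IsPurelyInseparable k k' ∧
      Algebra.IsGeometricallyReduced k' ((k' ⊗[k] A) ⧸ nilradical (k' ⊗[k] A)) := by
  classical
  let L := perfectClosure k (AlgebraicClosure k)
  have : PerfectField L := perfectClosure.perfectField k (AlgebraicClosure k)
  have : Algebra.FiniteType L (L ⊗[k] A) := inferInstance
  have : IsNoetherianRing (L ⊗[k] A) := Algebra.FiniteType.isNoetherianRing L (L ⊗[k] A)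
  obtain ⟨G, hG⟩ := IsNoetherian.noetherian (nilradical (L ⊗[k] A))
  choose s hs using fun z : L ⊗[k] A ↦ exists_finset_mem_range k z
  let k' : IntermediateField k L := IntermediateField.adjoin k (G.biUnion s : Set L)
  have hfin : Module.Finite k k' :=
    IntermediateField.finiteDimensional_adjoin fun x _ ↦ (Algebra.IsAlgebraic.isAlgebraic x).isIntegral
  refine ⟨k', inferInstance, inferInstance, hfin, inferInstance,
    isGeometricallyReduced_quotient k (L := L) G hG.symm fun z hz ↦ ?_⟩
  exact hs z k' (fun x hx ↦ IntermediateField.subset_adjoin k _ (Finset.mem_biUnion.mpr ⟨z, hz, hx⟩))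

/-- The smooth locus of a geometrically reduced algebra of finite type over a field is dense. -/
theorem dense_smoothLocus (B : Type u) [CommRing B] [Algebra k B] [Algebra.FiniteType k B]
    [Algebra.IsGeometricallyReduced k B] : Dense (Algebra.smoothLocus k B) := by
  have : _root_.IsReduced B := Algebra.isReduced_of_isGeometricallyReduced k
  have : Algebra.FinitePresentation k B := Algebra.FinitePresentation.of_finiteType.mp inferInstance
  rw [dense_iff_inter_open]
  intro W hW ⟨p, hp⟩
  obtain ⟨q, hq, hqp⟩ := Ideal.exists_minimalPrimes_le (bot_le : ⊥ ≤ p.asIdeal)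
  have : q.IsPrime := hq.1.1
  refine ⟨⟨q, this⟩, ?_, ?_⟩
  · exact ((PrimeSpectrum.le_iff_specializes ⟨q, this⟩ p).mp hqp).mem_open hW hp
  · change Algebra.FormallySmooth k (Localization.AtPrime q)
    have : Algebra.IsGeometricallyReduced k (Localization.AtPrime q) :=
      FBase.Point.isGeometricallyReduced_of_isLocalization (A := B) q.primeCompl (Localization.AtPrime q)
    have : Algebra.EssFiniteType B (Localization.AtPrime q) :=
      Algebra.EssFiniteType.of_isLocalization _ q.primeCompl
    have : Algebra.EssFiniteType k (Localization.AtPrime q) := Algebra.EssFiniteType.comp k B _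
    have hF : IsField (Localization.AtPrime q) := by
      rw [IsLocalRing.isField_iff_maximalIdeal_eq]
      refine le_antisymm (fun z hz ↦ ?_) bot_le
      have hz' : z ∈ nilradical (Localization.AtPrime q) := by
        rw [nilradical_eq_sInf, Ideal.mem_sInf]
        intro P hP
        have hP' : P.IsPrime := hP
        have hd := (IsLocalization.isPrime_iff_isPrime_disjoint q.primeCompl (Localization.AtPrime q) P).mp hP'
        have hsub : P.comap (algebraMap B (Localization.AtPrime q)) ≤ q :=
          fun x hx ↦ by_contra fun hxq ↦ hd.2.le_bot ⟨hxq, hx⟩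
        have hmapped := Ideal.map_comap_le (f := algebraMap B (Localization.AtPrime q)) (K := P)
        refine hmapped ?_
        rw [le_antisymm hsub (hq.2 ⟨hd.1, bot_le⟩ hsub), Localization.AtPrime.map_eq_maximalIdeal]
        exact hz
      rwa [nilradical_eq_zero, Submodule.zero_eq_bot] at hz'
    let _ := hF.toField
    exact CAlg48.SepGen.formallySmooth k (Localization.AtPrime q)

end Groth.Agent.GeomRedPI
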